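import Cfsg.Agent.Lib.GD.MB
import Cfsg.Agent.Lib.GD.Bas
import Cfsg.Agent.S4294
import Cfsg.Agent.S0204

/-! # GD, package R1: the reducible case and the scalar `-1` -/

set_option autoImplicit false

namespace H99.GD

open H13.PS QuaternionGroup Subgroup
open scoped MatrixGroups

variable {G : Type*} [Group G] [Finite G] {D : Type*} [DivisionRing D] [CharZero D] {ρ : G →* M2 D} {z : G} {S : Type*} [Group S] {f : G →* S}

omit [CharZero D] in
theorem r1_red (hf : Min f) (p : G →* Dˣ) (h : p.ker ≤ f.ker) : Concl S := by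
  have := hf.simple
  have : Fact (Nat.Prime 5) := ⟨Nat.prime_five⟩
  have : Finite p.range := Finite.of_surjective _ p.rangeRestrict_surjective
  let φ : p.range →* S := p.rangeRestrict.liftOfSurjective p.rangeRestrict_surjective
    ⟨f, by rwa [MonoidHom.ker_rangeRestrict]⟩
  have sφ : Function.Surjective φ := fun s => by
    obtain ⟨g, rfl⟩ := hf.surj s
    exact ⟨p.rangeRestrict g, MonoidHom.liftOfRightInverse_comp_apply _ _ _ _ g⟩
  obtain ⟨e⟩ := Cfsg.Agent.S4294.result p.range fun hs => hf.nc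
    ⟨⟨IsSimpleGroup.comm_iff_isSolvable.2 (Group.isSolvable_of_surjective sφ)⟩⟩
  let ψ := φ.comp e.symm.toMonoidHom
  have sψ : Function.Surjective ψ := sφ.comp e.symm.surjective
  let χ : PSL(2, ZMod 5) →* S := QuotientGroup.lift _ ψ fun c hc => simple_center hf.nc fun s => by
    obtain ⟨g, rfl⟩ := sψ s
    rw [← map_mul, ← map_mul, mem_center_iff.1 hc g]
  have sχ : Function.Surjective χ := fun s => by
    obtain ⟨g, rfl⟩ := sψ s
    exact ⟨g, rfl⟩
  have : IsSimpleGroup PSL(2, ZMod 5) :=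
    Matrix.ProjectiveSpecialLinearGroup.rank_two_simple (by simp)
  refine ⟨ZMod 5, inferInstance, inferInstance, Or.inl (ZMod.card 5),
    ⟨(MulEquiv.ofBijective χ ⟨(MonoidHom.ker_eq_bot_iff _).1 ?_, sχ⟩).symm⟩⟩
  refine χ.normal_ker.eq_bot_or_eq_top.resolve_right fun e => ?_
  obtain ⟨s, hs⟩ := exists_ne (1 : S)
  obtain ⟨g, rfl⟩ := sχ s
  exact hs (e.ge (mem_top g))

theorem red (hρ : Function.Injective ρ) (hf : Min f) (hI : ¬ Irr ρ) : Concl S := by
  have := hf.simple
  simp only [Irr, not_forall, not_exists, not_not] at hI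
  obtain ⟨e, h, h0, h1, hX⟩ := hI
  obtain ⟨p, q, j, -⟩ := proj hρ h h0 h1 ⊤ fun x _ => hX x
  rcases hf.normal (p.comp topEquiv.symm.toMonoidHom).ker with a | a
  · rcases hf.normal (q.comp topEquiv.symm.toMonoidHom).ker with b | b
    · obtain ⟨s, hs⟩ := exists_ne (1 : S)
      obtain ⟨g, rfl⟩ := hf.surj s
      have : g = 1 := congrArg Subtype.val (j ⟨g, mem_top g⟩ (a.ge (mem_top g)) (b.ge (mem_top g)))
      exact (hs (by rw [this, map_one])).elim
    · exact r1_red hf _ b
  · exact r1_red hf _ a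

theorem not_simple (hρ : Function.Injective ρ) [IsSimpleGroup G] (h : ¬ IsMulCommutative G) : False := by
  obtain ⟨E, hE⟩ := Cfsg.Agent.S0204.result (G := G) fun c => h ⟨⟨c.commGroup.mul_comm⟩⟩
  have k : ∀ x, ρ x ≠ -1 := fun x e => by
    have : x = 1 := simple_center h fun g => hρ (by rw [map_mul, map_mul, e, mul_neg_one, neg_one_mul])
    rw [this, map_one] at e
    exact neg_one_ne e.symm
  have : Fintype E := Fintype.ofFinite E
  obtain ⟨a, b, c, ab, ac, bc⟩ := Fintype.two_lt_card_iff.1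
    (show 2 < Fintype.card E by rw [IsKleinFour.card_four']; omega)
  have m : ∀ a b : E, a ≠ 1 → b ≠ 1 → a ≠ b → False := fun a b a1 b1 ab => by
    have sq : ∀ x : E, (x : G) * x = 1 := fun x => congrArg Subtype.val (IsKleinFour.mul_self x)
    rcases four_neg hρ (sq a) (sq b) (fun e => a1 (Subtype.ext e)) (fun e => b1 (Subtype.ext e))
      (fun e => ab (Subtype.ext e)) (congrArg Subtype.val (mul_comm_of_exponent_two IsKleinFour.exponent_two a b))
      with e | e | e <;> exact k _ e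
  by_cases a1 : a = 1
  · exact m b c (a1 ▸ ab.symm) (a1 ▸ ac.symm) bc
  by_cases b1 : b = 1
  · exact m a c a1 (b1 ▸ bc.symm) ac
  · exact m a b a1 b1 ab

theorem exists_z (hρ : Function.Injective ρ) (hf : Min f) (hI : Irr ρ) (h2 : IsPGroup 2 f.ker) :
    ∃ z ∈ f.ker, ρ z = -1 := by
  have := hf.simple
  have : Fact (Nat.Prime 2) := ⟨Nat.prime_two⟩
  rcases f.ker.bot_or_nontrivial with e | e
  · let i := MulEquiv.ofBijective f ⟨(MonoidHom.ker_eq_bot_iff _).1 e, hf.surj⟩
    have : IsSimpleGroup G := i.isSimpleGroup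
    refine (not_simple hρ fun c => hf.nc ⟨⟨fun a b => ?_⟩⟩).elim
    obtain ⟨a, rfl⟩ := hf.surj a
    obtain ⟨b, rfl⟩ := hf.surj b
    rw [← map_mul, ← map_mul, c.is_comm.comm]
  have := h2.center_nontrivial
  obtain ⟨n, hn, hc⟩ := (h2.to_subgroup (center f.ker)).nontrivial_iff_card.1 this
  obtain ⟨t, ht⟩ := exists_prime_orderOf_dvd_card' (G := center f.ker) 2 (hc ▸ dvd_pow_self 2 hn.ne')
  have tt : ((t : f.ker) : G) * (t : f.ker) = 1 := by
    have := pow_orderOf_eq_one t
    rw [ht, pow_two] at this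
    exact congrArg (fun x : center f.ker => ((x : f.ker) : G)) this
  have t1 : ((t : f.ker) : G) ≠ 1 := fun e => by
    rw [show t = 1 from Subtype.ext (Subtype.ext e), orderOf_one] at ht
    omega
  by_cases c : ∀ g, g * ((t : f.ker) : G) = (t : f.ker) * g
  · exact ⟨_, t.1.2, (hI.cen tt c).resolve_left fun e => t1 (hρ (e.trans (map_one ρ).symm))⟩
  obtain ⟨g, hg⟩ := not_forall.1 c
  have m : g * (t : f.ker) * g⁻¹ ∈ f.ker := f.normal_ker.conj_mem _ t.1.2 g
  rcases four_neg hρ (a := g * (t : f.ker) * g⁻¹) (by rw [conj_mul, tt, mul_one, mul_inv_cancel]) tt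
    (fun e => t1 (conj_eq_one_iff.1 e)) t1 (fun e => hg (mul_inv_eq_iff_eq_mul.1 e))
    (congrArg Subtype.val (mem_center_iff.1 t.2 ⟨_, m⟩)) with e | e | e
  exacts [⟨_, m, e⟩, ⟨_, t.1.2, e⟩, ⟨_, mul_mem m t.1.2, e⟩]

end H99.GD
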