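import Cfsg.Agent.Lib.GD.MC
import Cfsg.Agent.S0496
import Cfsg.Agent.S0494
import Cfsg.Agent.S0253

/-! The kernel of a minimal cover with a `2`-group as kernel is central, or the quotient is `A₅`. -/

set_option autoImplicit false

namespace H99.GD

open H13.PS QuaternionGroup Subgroup
open scoped MatrixGroups

variable {G S : Type*} [Group G] [Finite G] [Group S] {f : G →* S} {z : G}

namespace R3

omit [Finite G] in
/-- there are no six pairwise anticommuting involutions -/
theorem six (hz : Ax z) (s : Fin 6 → G) (hs : ∀ i, Nci z (s i))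
    (h : ∀ i j, i ≠ j → s i * s j * (s i)⁻¹ = z * s j) : False := by
  have a1 : ∀ i j, j < i → ∀ x, s i * (s j * x) = z * (s j * (s i * x)) := fun i j k x => by
    rw [← mul_assoc, mul_inv_eq_iff_eq_mul.1 (h i j k.ne')]; simp only [mul_assoc]
  have a2 : ∀ i x, s i * (s i * x) = x := fun i x => by rw [← mul_assoc, (hs i).1, one_mul]
  have a3 : ∀ i x, s i * (z * x) = z * (s i * x) := fun i x => by rw [← mul_assoc, hz.zc, mul_assoc]
  have a4 : ∀ x, z * (z * x) = x := fun x => by rw [← mul_assoc, hz.zz, one_mul]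
  have e : ∀ {a b : G}, a * 1 = b * 1 → a = b := mul_right_cancel
  obtain ⟨w, hw⟩ : ∃ w, w = s 0 * s 1 * s 2 * s 3 * s 4 := ⟨_, rfl⟩
  have w1 : w * w = 1 := e (by rw [one_mul]; simp (decide := true) only [hw, mul_assoc, a1, a2, a3, a4])
  have w2 : s 0 * w = w * s 0 := e (by simp (decide := true) only [hw, mul_assoc, a1, a2, a3, a4])
  have w3 : s 1 * w = w * s 1 := e (by simp (decide := true) only [hw, mul_assoc, a1, a2, a3, a4])
  have w4 : s 5 * w = z * (w * s 5) := e (by simp (decide := true) only [hw, mul_assoc, a1, a3, a4])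
  have w5 : s 5 * w ≠ w * s 5 := fun k => hz.ne (by simpa [k] using w4)
  have w6 : Nci z w := ⟨w1, fun k => w5 (by simp [k]), fun k => w5 (k ▸ hz.zc _)⟩
  have c : s 0 * s 1 = s 1 * s 0 := by
    rcases hz.f1 _ _ (hs 0) w6 w2 with k | k <;> rw [k] at w3
    · exact w3.symm
    · rw [a3, mul_assoc] at w3; exact (mul_left_cancel w3).symm
  exact hz.ne (by simpa [c] using h 0 1 (by decide))

omit [Finite G] in
/-- the stabiliser of the pair `{s, z s}` -/
def st (hz : Ax z) (s : G) : Subgroup G where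
  carrier := {g | g * s * g⁻¹ = s ∨ g * s * g⁻¹ = z * s}
  one_mem' := Or.inl (by simp)
  mul_mem' := fun {g k} hg hk => by
    have e : g * k * s * (g * k)⁻¹ = g * (k * s * k⁻¹) * g⁻¹ := by group
    have e' : g * (z * s) * g⁻¹ = z * (g * s * g⁻¹) := by rw [← mul_assoc g, hz.zc]; group
    show _ ∨ _
    rcases hk with hk | hk <;> rw [e, hk]
    · exact hg
    · rw [e']
      exact hg.symm.imp (fun k => by rw [k, ← mul_assoc, hz.zz, one_mul]) fun k => by rw [k]
  inv_mem' := fun {g} hg => by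
    have e' : g⁻¹ * (z * s) * g = z * (g⁻¹ * s * g) := by rw [← mul_assoc g⁻¹, hz.zc]; group
    show _ ∨ _
    rw [inv_inv]
    refine hg.imp (fun k => by nth_rw 1 [← k]; group) fun k => ?_
    rw [k.symm, show g⁻¹ * (g * s * g⁻¹) * g = s by group] at e'
    rw [← k.symm] at *
    nth_rw 2 [e']; rw [← mul_assoc, hz.zz, one_mul]

end R3

open R3

theorem ker_central (hf : Min f) (hz : Ax z) (hc : ∀ s, Nci z s → ∃ g, g * s ≠ s * g)
    (h2 : IsPGroup 2 f.ker) : f.ker ≤ center G ∨ Concl S := by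
  by_cases hS : ∃ s ∈ f.ker, Nci z s ∧ f.ker ≤ st hz s
  · obtain ⟨s, hs, ns, hs'⟩ := hS
    have h5 : (st hz s).index ≤ 5 := by
      by_contra h6
      obtain ⟨q⟩ : Nonempty (Fin 6 ↪ G ⧸ st hz s) := by
        have := Fintype.ofFinite (G ⧸ st hz s)
        exact Function.Embedding.nonempty_of_card_le (by
          rw [Fintype.card_fin, ← Nat.card_eq_fintype_card, ← index_eq_card]; omega)
      refine six hz (fun i => (q i).out * s * (q i).out⁻¹) (fun i => ns.cj hz _) fun i j hij => ?_
      set g := (q i).out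
      set k := (q j).out
      have m : k⁻¹ * (g * s * g⁻¹) * k⁻¹⁻¹ ∈ f.ker := f.normal_ker.conj_mem _ (f.normal_ker.conj_mem _ hs _) _
      rcases hs' m with e | e
      · have e' : k * s * k⁻¹ * (g * s * g⁻¹) = g * s * g⁻¹ * (k * s * k⁻¹) := by
          nth_rw 1 [← e]; group
        refine absurd (q.injective ?_) hij.symm
        rw [← (q i).out_eq, ← (q j).out_eq]
        refine QuotientGroup.eq.2 ((hz.f1 _ _ (ns.cj hz k) (ns.cj hz g) e').imp (fun d => ?_) fun d => ?_)
        · calc k⁻¹ * g * s * (k⁻¹ * g)⁻¹ = k⁻¹ * (g * s * g⁻¹) * k := by group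
            _ = _ := by rw [d]; group
        · calc k⁻¹ * g * s * (k⁻¹ * g)⁻¹ = k⁻¹ * (g * s * g⁻¹) * k := by group
            _ = _ := by rw [d, ← mul_assoc k⁻¹, hz.zc]; group
      · calc _ = k * (k⁻¹ * (g * s * g⁻¹) * k⁻¹⁻¹ * s * (k⁻¹ * (g * s * g⁻¹) * k⁻¹⁻¹)⁻¹) * k⁻¹ := by group
          _ = _ := by rw [e, ← mul_assoc k, hz.zc]; group
    rcases hf.normal (st hz s).normalCore with e | e
    · obtain ⟨g, hg⟩ := hc s ns
      have t : ∀ x, x * s * x⁻¹ = s ∨ x * s * x⁻¹ = z * s := fun x => normalCore_le _ (e.ge (mem_top x))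
      have u : ∀ x, x ∈ centralizer {s} ↔ x * s * x⁻¹ = s := fun x => by
        rw [mem_centralizer_singleton_iff, mul_inv_eq_iff_eq_mul]
      have v : s ≠ z * s := fun k => hz.ne (by simpa using k)
      have g1 := (t g).resolve_left fun k => hg (mul_inv_eq_iff_eq_mul.1 k)
      refine (idx2 hf.perfect (centralizer {s}) (index_eq_two_iff.2 ⟨g, fun x => ?_⟩)).elim
      have e' : x * g * s * (x * g)⁻¹ = z * (x * s * x⁻¹) := by
        rw [show x * g * s * (x * g)⁻¹ = x * (g * s * g⁻¹) * x⁻¹ by group, g1, ← mul_assoc x, hz.zc]; group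
      rw [u, u, e']
      rcases t x with k | k <;> rw [k]
      · exact Or.inr ⟨rfl, v.symm⟩
      · exact Or.inl ⟨by rw [← mul_assoc, hz.zz, one_mul], v.symm⟩
    · have := hf.simple
      have := Finite.of_surjective f hf.surj
      have d : (st hz s).normalCore.index ∣ (st hz s).index.factorial := by
        rw [normalCore_eq_ker, index_ker, index_eq_card, ← Nat.card_perm]
        exact card_subgroup_dvd_card _
      have d1 : Nat.card S ∣ 120 := by
        refine ((?_ : _ ∣ _).trans ((index_dvd_of_le e).trans d)).trans (Nat.factorial_dvd_factorial h5)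
        rw [index_ker, MonoidHom.range_eq_top.2 hf.surj, card_top]
      have d2 := Nat.le_of_dvd (by norm_num) d1
      have d3 := Cfsg.Agent.S0496.result hf.nc (by omega)
      obtain ⟨e1⟩ := Cfsg.Agent.S0494.result (G := S) (by omega)
      have : Fact (Nat.Prime 5) := ⟨by norm_num⟩
      obtain ⟨e2⟩ := Cfsg.Agent.S0253.result (F := ZMod 5) (ZMod.card 5)
      exact Or.inr ⟨ZMod 5, inferInstance, inferInstance, Or.inl (ZMod.card 5), ⟨e1.trans e2.symm⟩⟩
  · obtain ⟨n, hn⟩ := mc_aut h2 fun A hA hA' => by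
      by_contra hn
      obtain ⟨_, ⟨s, hs, rfl⟩, ns⟩ := exists_nci (z := z) (A.map f.ker.subtype) ((h2.to_subgroup A).map _) inferInstance
        fun k => hn ((A.equivMapOfInjective _ f.ker.subtype_injective).isCyclic.2 k)
      exact hS ⟨s, s.2, ns, fun g hg => hz.f1 _ _ ns (ns.cj hz g)
        (congrArg (fun x : A => ((x : f.ker) : G)) (hA'.1.1 ⟨s, hs⟩ ⟨_, hA.conj_mem s hs ⟨g, hg⟩⟩))⟩
    have t : ∀ n, derivedSeries G n = ⊤ := fun n => by
      induction n with
      | zero => rfl
      | succ n ih => rw [derivedSeries_succ, ih]; exact hf.perfect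
    refine Or.inl fun x hx => mem_center_iff.2 fun g => ?_
    have := map_derivedSeries_le_derivedSeries (MulAut.conjNormal (H := f.ker)) n ⟨g, (t n).ge (mem_top g), rfl⟩
    rw [hn, mem_bot] at this
    exact mul_inv_eq_iff_eq_mul.1 (congrArg (fun a : MulAut f.ker => (a ⟨x, hx⟩ : G)) this)

end H99.GD
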